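import Cfsg.Agent.H227.IMThJ
import Cfsg.Agent.H478.RadTh
import Cfsg.Agent.H341.CC.Rc

/-!
# S3828, the row of the Thompson group at `p = 5` (helper593)
-/

set_option autoImplicit false

namespace Cfsg.Agent.H593.CCTh

open Cfsg Subgroup Cfsg.Agent.H162.CCR
open Cfsg.Agent.H478.RadTh (fin card_Th center_Th simple radFree_invol)
open Cfsg.Agent.H459.Rad Cfsg.Agent.H839.Rad Cfsg.Agent.H227.IMTh.Five

/-- **Th, p = 5.** -/
theorem five : CRow 5 Spor.Th := by
  have := fin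
  have := simple
  have h5 : Fact (Nat.Prime 5) := ⟨Nat.prime_five⟩
  intro C hC c hc
  by_contra hc1
  obtain ⟨M, hM⟩ := exists_Mid
  have hi : ¬ 5 ∣ M.index := by
    have h1 := M.card_mul_index
    rw [hM.card, card_Th] at h1
    omega
  obtain ⟨g, hg⟩ := hC.exists_conj_mem hi hc
  have hg1 : g * c * g⁻¹ ≠ 1 := fun h => hc1 (by simpa using h)
  obtain ⟨k, hk⟩ := isConj_iff.1 (hM.conj _ hg hg1)
  have hx : Cfsg.Agent.H227.IMTh.Five.x5 ∈ C := by
    rw [← hk]
    exact hC.conj k _ (hC.conj g c hc)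
  have ht := Cfsg.Agent.MonsterX.ThOneClass.orderOf_a
  refine false_of_comm Cfsg.Agent.H227.IMTh.Five.order_x5 (Cfsg.Agent.H341.CC.rc_of_min hC hx) ?_
    Cfsg.Agent.H227.IMTh.Five.x5_comm (radFree_invol Nat.prime_five (by norm_num) ht)
  rw [center_Th, Subgroup.mem_bot]
  intro h
  rw [h, orderOf_one] at ht
  exact absurd ht (by norm_num)

end Cfsg.Agent.H593.CCTh
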