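import Cfsg.Agent.H964.NoHall.RowTh
import Cfsg.Agent.H478.RadTh
import Cfsg.Agent.H865.CC.Base
import Cfsg.Agent.H162.CC.Tools3

/-!
# S3828, the rows of the Thompson group at `p = 13` and `p = 31` (helper593)

* `p = 13` : an element `z` of order 13 commutes with the generator `t` of order 3, whose centraliser contains `a`,
  and `a` does not normalise `⟨z⟩`.
* `p = 31` : an element `w` of order 31 of the subgroup `2^5.L_5(2)`: the involution `a` commutes with all its
  conjugates under `⟨w⟩`.
-/

set_option autoImplicit false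
set_option Elab.async false

namespace Cfsg.Agent.H593.CCTh

open Cfsg Subgroup Cfsg.Agent.H162.CCR
open Cfsg.Agent.H478.RadTh (fin card_Th center_Th simple radFree_invol)
open Cfsg.Agent.Th.Gen248 Cfsg.Agent.H964.NoHall

section General

variable {G : Type*} [Group G] [Finite G] {p : ℕ} [hp : Fact p.Prime]

/-- `p`-subgroups are abelian if `p² ∤ |G|` -/
theorem comm_of_not_sq (h : ¬ p ^ 2 ∣ Nat.card G) {Q : Subgroup G} (hQ : IsPGroup p Q) {x y : G} (hx : x ∈ Q)
    (hy : y ∈ Q) : x * y = y * x := by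
  obtain ⟨n, hn⟩ := IsPGroup.iff_card.1 hQ
  have h1 : n ≤ 1 := by
    by_contra h2
    apply h
    exact (pow_dvd_pow p (by omega)).trans (hn ▸ Subgroup.card_subgroup_dvd_card Q)
  have h2 : IsCyclic Q := by
    rcases Nat.le_one_iff_eq_zero_or_eq_one.1 h1 with h3 | h3
    · rw [h3, pow_zero] at hn
      have := (Nat.card_eq_one_iff_unique.1 hn).1
      exact isCyclic_of_subsingleton
    · rw [h3, pow_one] at hn
      exact isCyclic_of_prime_card hn
  obtain ⟨g, hg⟩ := h2.exists_generator
  obtain ⟨i, hi⟩ := mem_zpowers_iff.1 (hg ⟨x, hx⟩)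
  obtain ⟨j, hj⟩ := mem_zpowers_iff.1 (hg ⟨y, hy⟩)
  have h3 : (⟨x, hx⟩ : Q) * ⟨y, hy⟩ = ⟨y, hy⟩ * ⟨x, hx⟩ := by
    rw [← hi, ← hj, ← zpow_add, ← zpow_add, add_comm]
  exact congrArg Subtype.val h3

/-- a non-trivial element of `C` among the powers of an element of order `p` if `p² ∤ |G|` -/
theorem exists_pow {C : Set G} (hC : Min p C) (h : ¬ p ^ 2 ∣ Nat.card G) {z : G} (hz : orderOf z = p) {c : G}
    (hc : c ∈ C) (hc1 : c ≠ 1) : ∃ k : ℕ, z ^ k ∈ C ∧ z ^ k ≠ 1 := by
  have hi : ¬ p ∣ (zpowers z).index := by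
    intro h1
    apply h
    rw [← (zpowers z).card_mul_index, Nat.card_zpowers, hz, pow_two]
    exact mul_dvd_mul_left p h1
  obtain ⟨g, hg⟩ := hC.exists_conj_mem hi hc
  obtain ⟨k, hk⟩ := mem_powers_iff_mem_zpowers.2 hg
  have hk' : z ^ k = g * c * g⁻¹ := hk
  refine ⟨k, hk' ▸ hC.conj g c hc, ?_⟩
  rw [hk']
  intro h1
  exact hc1 (by simpa using h1)

end General

section Thirteen

/-- an element of order 13 -/
def z13 : Wd := wl [.b, .u, .d, .u]

set_option maxRecDepth 100000 in
theorem z13_pow : Nat.beq (evN false (.pow z13 13)) (evN false .one) = true := by decide +kernel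

set_option maxRecDepth 100000 in
theorem z13_ne : Nat.beq (evN false z13) (evN false .one) = false := by decide +kernel

set_option maxRecDepth 100000 in
theorem t_ne : Nat.beq (evN false (.g .t)) (evN false .one) = false := by decide +kernel

set_option maxRecDepth 100000 in
theorem z13_t : Nat.beq (evN false (.mul z13 (.g .t))) (evN false (.mul (.g .t) z13)) = true := by decide +kernel

set_option maxRecDepth 100000 in
theorem a_t : Nat.beq (evN false (.mul (.g .a) (.g .t))) (evN false (.mul (.g .t) (.g .a))) = true := by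
  decide +kernel

/-- the conjugate by `a` -/
def y13 : Wd := .mul (.mul (.g .a) z13) (.inv (.g .a))

set_option maxRecDepth 100000 in
theorem z13_y : Nat.beq (evN false (.mul z13 y13)) (evN false (.mul y13 z13)) = false := by decide +kernel

/-- **Th, p = 13.** -/
theorem thirteen : CRow 13 Spor.Th := by
  have := fin
  have := simple
  have hp : Fact (Nat.Prime 13) := ⟨by norm_num⟩
  have hsq : ¬ 13 ^ 2 ∣ Nat.card Spor.Th := by rw [card_Th]; norm_num
  intro C hC c hc
  by_contra hc1
  have hz : orderOf (thE z13) = 13 := by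
    refine orderOf_eq_prime ?_ ?_
    · have h := thE_eq z13_pow
      rwa [thE_pow, thE_one] at h
    · have h := thE_ne z13_ne
      rwa [thE_one] at h
  obtain ⟨k, hk, hk1⟩ := exists_pow hC hsq hz hc hc1
  have htne : thE (.g .t) ≠ 1 := by
    have h := thE_ne t_ne
    rwa [thE_one] at h
  have hzt : thE z13 * thE (.g .t) = thE (.g .t) * thE z13 := by
    have h := thE_eq z13_t
    rwa [thE_mul, thE_mul] at h
  have hat : thE (.g .a) * thE (.g .t) = thE (.g .t) * thE (.g .a) := by
    have h := thE_eq a_t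
    rwa [thE_mul, thE_mul] at h
  set H : Subgroup Spor.Th := centralizer {thE (.g .t)} with hH
  have hHt : H ≠ ⊤ := by
    intro h2
    apply htne
    have h3 : thE (.g .t) ∈ Subgroup.center Spor.Th := by
      rw [Subgroup.mem_center_iff]
      intro g
      have h4 : g ∈ H := by rw [h2]; trivial
      exact Subgroup.mem_centralizer_singleton_iff.1 h4
    rw [center_Th] at h3
    simpa using h3
  have hzH : thE z13 ∈ H := Subgroup.mem_centralizer_singleton_iff.2 hzt
  have haH : thE (.g .a) ∈ H := Subgroup.mem_centralizer_singleton_iff.2 hat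
  have h1 := hC.mem_map_pCore hHt hk (pow_mem hzH k)
  -- `z ∈ ⟨z^k⟩`
  have h2 : thE z13 ∈ zpowers (thE z13 ^ k) := by
    have h3 : k.Coprime 13 := by
      rw [Nat.coprime_comm]
      refine (Nat.Prime.coprime_iff_not_dvd (by norm_num)).2 fun h4 => hk1 ?_
      rw [← orderOf_dvd_iff_pow_eq_one, hz]
      exact h4
    have h4 : zpowers (thE z13 ^ k) = zpowers (thE z13) := by
      apply Subgroup.eq_of_le_of_card_ge
      · rw [zpowers_le]; exact pow_mem (mem_zpowers _) k
      · rw [Nat.card_zpowers, Nat.card_zpowers, Nat.Coprime.orderOf_pow (by rw [hz]; exact h3.symm)]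
    rw [h4]
    exact mem_zpowers _
  have h3 : thE z13 ∈ (pCore 13 H).map H.subtype := (zpowers_le.2 h1) h2
  have h4 : thE (.g .a) * thE z13 * (thE (.g .a))⁻¹ ∈ (pCore 13 H).map H.subtype := by
    obtain ⟨x, hx, hxz⟩ := h3
    refine ⟨⟨thE (.g .a), haH⟩ * x * ⟨thE (.g .a), haH⟩⁻¹,
      (inferInstance : (pCore 13 H).Normal).conj_mem x hx ⟨thE (.g .a), haH⟩, ?_⟩
    rw [← hxz]
    rfl
  have h5 : IsPGroup 13 ((pCore 13 H).map H.subtype) := (Cfsg.Agent.Lib.Cores.pCore_isPGroup 13).map _
  have h6 := comm_of_not_sq hsq h5 h3 h4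
  have h7 := thE_ne z13_y
  rw [thE_mul, thE_mul] at h7
  exact h7 h6

end Thirteen

section ThirtyOne

/-- an element of order 31 -/
def w31 : Wd := wl [.S, .S, .d, .U, .d, .b, .a, .c, .b]

/-- the conjugate `w^{-k} a w^k` -/
def x31 (k : ℕ) : Wd := .mul (.mul (.inv (.pow w31 k)) (.g .a)) (.pow w31 k)

set_option maxRecDepth 100000 in
theorem w31_pow : Nat.beq (evN false (.pow w31 31)) (evN false .one) = true := by decide +kernel

set_option maxRecDepth 100000 in
theorem w31_ne : Nat.beq (evN false w31) (evN false .one) = false := by decide +kernel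

set_option maxRecDepth 100000 in
theorem x31_1 : Nat.beq (evN false (x31 1)) (evN false (.g .c)) = true := by decide +kernel

set_option maxRecDepth 100000 in
theorem ac_comm : Nat.beq (evN false (.mul (.g .a) (.g .c))) (evN false (.mul (.g .c) (.g .a))) = true := by
  decide +kernel

set_option maxRecDepth 100000 in
theorem x31_2 : Nat.beq (evN false (.mul (.g .a) (x31 2))) (evN false (.mul (x31 2) (.g .a))) = true := by
  decide +kernel

set_option maxRecDepth 100000 in
theorem x31_3 : Nat.beq (evN false (.mul (.g .a) (x31 3))) (evN false (.mul (x31 3) (.g .a))) = true := by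
  decide +kernel

set_option maxRecDepth 100000 in
theorem x31_4 : Nat.beq (evN false (.mul (.g .a) (x31 4))) (evN false (.mul (x31 4) (.g .a))) = true := by
  decide +kernel

set_option maxRecDepth 100000 in
theorem x31_5 : Nat.beq (evN false (x31 5)) (evN false (.mul (.g .a) (x31 2))) = true := by
  decide +kernel

theorem thE_inv (v : Wd) : thE (.inv v) = (thE v)⁻¹ := rfl

theorem thE_x31 (k : ℕ) : thE (x31 k) = (thE w31 ^ k)⁻¹ * thE (.g .a) * thE w31 ^ k := rfl

theorem x31_add {k : ℕ} : thE (x31 (k + 5)) = thE (x31 k) * thE (x31 (k + 2)) := by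
  have h := thE_eq x31_5
  rw [thE_mul, thE_x31, thE_x31] at h
  rw [thE_x31, thE_x31, thE_x31]
  calc (thE w31 ^ (k + 5))⁻¹ * thE (.g .a) * thE w31 ^ (k + 5)
      = (thE w31 ^ k)⁻¹ * ((thE w31 ^ 5)⁻¹ * thE (.g .a) * thE w31 ^ 5) * thE w31 ^ k := by
        rw [add_comm k 5, pow_add]
        group
    _ = (thE w31 ^ k)⁻¹ * (thE (.g .a) * ((thE w31 ^ 2)⁻¹ * thE (.g .a) * thE w31 ^ 2)) * thE w31 ^ k := by rw [h]
    _ = _ := by
        rw [add_comm k 2, pow_add]
        group

/-- `a` commutes with all its conjugates under `⟨w⟩` -/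
theorem a_comm : ∀ k : ℕ, thE (.g .a) * thE (x31 k) = thE (x31 k) * thE (.g .a)
  | 0 => by rw [thE_x31, pow_zero, inv_one, one_mul, mul_one]
  | 1 => by
    have h1 := thE_eq x31_1
    have h2 := thE_eq ac_comm
    rw [thE_mul, thE_mul] at h2
    rw [h1]
    exact h2
  | 2 => by
    have h2 := thE_eq x31_2
    rwa [thE_mul, thE_mul] at h2
  | 3 => by
    have h2 := thE_eq x31_3
    rwa [thE_mul, thE_mul] at h2
  | 4 => by
    have h2 := thE_eq x31_4
    rwa [thE_mul, thE_mul] at h2
  | k + 5 => by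
    rw [x31_add, ← mul_assoc, a_comm k, mul_assoc, a_comm (k + 2), mul_assoc]

/-- **Th, p = 31.** -/
theorem thirtyOne : CRow 31 Spor.Th := by
  have := fin
  have := simple
  have hp : Fact (Nat.Prime 31) := ⟨by norm_num⟩
  have hsq : ¬ 31 ^ 2 ∣ Nat.card Spor.Th := by rw [card_Th]; norm_num
  intro C hC c hc
  by_contra hc1
  have hz : orderOf (thE w31) = 31 := by
    refine orderOf_eq_prime ?_ ?_
    · have h := thE_eq w31_pow
      rwa [thE_pow, thE_one] at h
    · have h := thE_ne w31_ne
      rwa [thE_one] at h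
  obtain ⟨k, hk, hk1⟩ := exists_pow hC hsq hz hc hc1
  have ht : orderOf (thE (.g .a)) = 2 := Cfsg.Agent.H478.RadTh.orderOf_a
  refine hC.comm_false hk hk1 (g := thE (.g .a)) (by rw [ht]; norm_num) ?_ ?_
  · exact a_comm k
  · intro x hx
    have hx2 : orderOf x = 2 := by
      obtain ⟨g, hg⟩ := isConj_iff.1 hx
      rw [← hg, ← ht]
      exact (MulAut.conj g).orderOf_eq (thE (.g .a))
    refine ⟨centralizer {x}, ?_, le_rfl, ?_⟩
    · intro h2
      have h3 : x ∈ Subgroup.center Spor.Th := by
        rw [Subgroup.mem_center_iff]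
        intro g
        have h4 : g ∈ centralizer {x} := by rw [h2]; trivial
        exact Subgroup.mem_centralizer_singleton_iff.1 h4
      rw [center_Th, Subgroup.mem_bot] at h3
      rw [h3, orderOf_one] at hx2
      exact absurd hx2 (by norm_num)
    · exact Cfsg.Agent.H865.CC.pCore_eq_bot_of_radFree (radFree_invol (by norm_num) (by norm_num) hx2)

end ThirtyOne

end Cfsg.Agent.H593.CCTh
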